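import Groth.Agent.H1GenDepth.Basic
import Groth.Agent.DimFormula.JacobsonLocal
import Groth.Agent.CplFib6.Codepth
import Groth.Agent.Codepth5.Module
import Groth.Agent.QCoh.Stalk
import Groth.Agent.QCoh.Support
import Groth.Agent.KRegLib.Regular
import Groth.Agent.LC.DualCM
import Groth.Agent.LC.FiniteCrit
import Groth.Agent.RegLoc6.Open
import Groth.Agent.S0603

/-!
# The rectified depth on schemes locally of finite type over a regular scheme

The depth of a coherent module along the closure of a point `x` equals, near `x`, the depth at `x`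
plus the codimension.
-/

set_option autoImplicit false
set_option linter.style.haveILetI false
set_option backward.isDefEq.respectTransparency false
set_option backward.isDefEq.respectTransparency.types false

universe u

open AlgebraicGeometry CategoryTheory

namespace Groth.Agent.H1RectDepth

open DimFormula

/-- The depth at a prime near the generic point of `V(p)`, for quotients of regular rings. -/
theorem exists_depAt_eq (R A : Type u) [CommRing R] [CommRing A] [IsRegularRing R] [Algebra R A]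
    [IsNoetherianRing A] (hs : Function.Surjective (algebraMap R A)) (M : Type u) [AddCommGroup M] [Module A M]
    [Module.Finite A M] (p : Ideal A) [p.IsPrime] :
    ∃ f ∉ p, ∀ (q : Ideal A) [q.IsPrime], p ≤ q → f ∉ q →
      H1GenDepth.depAt q M = H1GenDepth.depAt p M + (q.map (Ideal.Quotient.mk p)).height := by
  obtain ⟨f, hf, H⟩ := H1GenDepth.exists_add p M p (Ideal.IsPrime.radical ‹_›)
  have hopen := CplFib6.isOpen_codepth_le R A hs (A ⧸ p) 0
  have hp : (⟨p, inferInstance⟩ : PrimeSpectrum A) ∈ {r : PrimeSpectrum A |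
      Module.supportDim (Localization.AtPrime r.asIdeal) (LocalizedModule r.asIdeal.primeCompl (A ⧸ p)) ≤
        ((LocCoh.depth (Localization.AtPrime r.asIdeal) (LocalizedModule r.asIdeal.primeCompl (A ⧸ p)) : ℕ∞) :
          WithBot ℕ∞) + (0 : ℕ)} := by
    show H1GenDepth.dimAt p (A ⧸ p) ≤ ((H1GenDepth.depAt p (A ⧸ p) : ℕ∞) : WithBot ℕ∞) + (0 : ℕ)
    rw [(H1GenDepth.dimAt_self p).1, (H1GenDepth.dimAt_self p).2]
    simp
  obtain ⟨_, ⟨g, rfl⟩, hgp, hsub⟩ :=
    PrimeSpectrum.isTopologicalBasis_basic_opens.exists_subset_of_mem_open hp hopen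
  refine ⟨f * g, p.primeCompl.mul_mem hf hgp, fun q _ hpq hfq => ?_⟩
  obtain ⟨-, h2⟩ := H q hpq fun h => hfq (q.mul_mem_right _ h)
  have hcm : H1GenDepth.dimAt q (A ⧸ p) ≤ ((H1GenDepth.depAt q (A ⧸ p) : ℕ∞) : WithBot ℕ∞) + (0 : ℕ) :=
    hsub (a := ⟨q, inferInstance⟩) fun h => hfq (q.mul_mem_left _ h)
  rw [Nat.cast_zero, add_zero] at hcm
  have hsupp : (⟨p, inferInstance⟩ : PrimeSpectrum A) ∈ Module.support A (A ⧸ p) := by
    rw [Module.mem_support_iff_of_finite, Ideal.annihilator_quotient]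
  have h3 := LC.height_map_mk_le_supportDim_localized (M := A ⧸ p) (⟨p, inferInstance⟩ : PrimeSpectrum A)
    ⟨q, inferInstance⟩ hpq hsupp
  have h4 := LC.depth_localized_le_add_height (A ⧸ p) p q hpq
  rw [h2]
  congr 1
  refine le_antisymm (h4.trans_eq ?_) (WithBot.coe_le_coe.1 (h3.trans hcm))
  show H1GenDepth.depAt p (A ⧸ p) + _ = _
  rw [(H1GenDepth.dimAt_self p).2, zero_add]

variable {X : Scheme.{u}}

/-- The depth of a stalk on an affine chart. -/
theorem depth_stalk_eq (F : X.Modules) (hF : Coh.IsQCoh F) {U : X.Opens} (hU : IsAffineOpen U) {x : X}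
    (hx : x ∈ U) :
    LocCoh.depth (X.presheaf.stalk x) (F.presheaf.stalk x) =
      H1GenDepth.depAt (hU.primeIdealOf ⟨x, hx⟩).asIdeal Γ(F, U) := by
  let q := (hU.primeIdealOf ⟨x, hx⟩).asIdeal
  letI := QCoh.stalkAlg (X := X) hx
  letI := QCoh.stalkModule F hx
  haveI := QCoh.isScalarTower_stalk F hx
  haveI := QCoh.isLocalization_stalk' hU hx
  haveI := QCoh.isLocalizedModule_germLin hF hU hx
  let L := X.presheaf.stalk x
  let σa := IsLocalization.algEquiv q.primeCompl (Localization.AtPrime q) L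
  let σ : Localization.AtPrime q →+* L := σa.toRingEquiv.toRingHom
  let e := IsLocalizedModule.iso q.primeCompl (QCoh.germLin F hx)
  refine ((Prod.ext_iff.1 (Codepth5.dd_congr σ σa.surjective e.toAddEquiv fun z m => ?_)).2).symm
  obtain ⟨⟨a, t⟩, hat⟩ := IsLocalization.surj q.primeCompl z
  have hu : IsUnit (algebraMap Γ(X, U) L (t : Γ(X, U))) := IsLocalization.map_units L t
  refine hu.smul_left_cancel.1 ?_
  have h1 : algebraMap Γ(X, U) L (t : Γ(X, U)) * σ z = algebraMap Γ(X, U) L a := by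
    rw [← σa.commutes (t : Γ(X, U)), ← σa.commutes a]
    show σa _ * σa z = σa _
    rw [← map_mul, mul_comm, hat]
  have h2 : (t : Γ(X, U)) • z • m = a • m := by
    rw [← algebraMap_smul (Localization.AtPrime q) (t : Γ(X, U)) (z • m), smul_smul, mul_comm]
    exact (congrArg (fun c => c • m) hat).trans (algebraMap_smul _ a m)
  rw [smul_smul, h1, algebraMap_smul, algebraMap_smul]
  show (t : Γ(X, U)) • e (z • m) = a • e m
  rw [← map_smul, h2, map_smul]

theorem specializes_iff_le {U : X.Opens} (hU : IsAffineOpen U) {x y : X} (hx : x ∈ U) (hy : y ∈ U) :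
    x ⤳ y ↔ (hU.primeIdealOf ⟨x, hx⟩).asIdeal ≤ (hU.primeIdealOf ⟨y, hy⟩).asIdeal := by
  show x ⤳ y ↔ hU.primeIdealOf ⟨x, hx⟩ ≤ hU.primeIdealOf ⟨y, hy⟩
  rw [PrimeSpectrum.le_iff_specializes, ← hU.fromSpec.isOpenEmbedding.isInducing.specializes_iff,
    hU.fromSpec_primeIdealOf, hU.fromSpec_primeIdealOf]

variable [IsLocallyNoetherian X]

theorem cd_eq_height {U : X.Opens} (hU : IsAffineOpen U) {x y : X} (hx : x ∈ U) (hy : y ∈ U) (h : x ⤳ y) :
    (cd x y : ℕ∞) = ((hU.primeIdealOf ⟨y, hy⟩).asIdeal.map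
      (Ideal.Quotient.mk (hU.primeIdealOf ⟨x, hx⟩).asIdeal)).height := by
  let j : PrimeSpectrum Γ(X, U) → X := hU.fromSpec
  have hj : Topology.IsEmbedding j := hU.fromSpec.isOpenEmbedding.isEmbedding
  have hle : hU.primeIdealOf ⟨x, hx⟩ ≤ hU.primeIdealOf ⟨y, hy⟩ := (specializes_iff_le hU hx hy).1 h
  have hjx : j (hU.primeIdealOf ⟨x, hx⟩) = x := hU.fromSpec_primeIdealOf _
  have hjy : j (hU.primeIdealOf ⟨y, hy⟩) = y := hU.fromSpec_primeIdealOf _
  have h2 := cd_spec j hj hle fun t _ ht => by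
    have : t ∈ (U : Set X) := (hjy ▸ ht).mem_open U.2 hy
    rwa [← hU.range_fromSpec] at this
  rw [hjx, hjy, coe_cd h, LC.height_Ici_eq] at h2
  exact WithBot.coe_injective h2

variable (F : X.Modules)

/-- The depth at a specialization is bounded by the codimension. -/
theorem depth_le_add_cd (hF : Coh.IsCoh F) {x y : X} (h : x ⤳ y) :
    LocCoh.depth (X.presheaf.stalk y) (F.presheaf.stalk y) ≤
      LocCoh.depth (X.presheaf.stalk x) (F.presheaf.stalk x) + (cd x y : ℕ∞) := by
  obtain ⟨U, hU, hy, -⟩ := exists_isAffineOpen_mem_and_subset (x := y) (U := ⊤) trivial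
  have hx : x ∈ U := h.mem_open U.2 hy
  haveI : IsNoetherianRing Γ(X, U) := IsLocallyNoetherian.component_noetherian ⟨U, hU⟩
  haveI := QCoh.finite_sections hF hU
  rw [depth_stalk_eq F hF.1 hU hy, depth_stalk_eq F hF.1 hU hx, cd_eq_height hU hx hy h]
  exact LC.depth_localized_le_add_height _ _ _ ((specializes_iff_le hU hx hy).1 h)

variable {S : Scheme.{u}} [IsLocallyNoetherian S]

/-- Near `x`, along its closure, the depth grows exactly by the codimension. -/
theorem exists_depth_eq (hreg : ∀ s : S, IsRegularLocalRing ↑(S.presheaf.stalk s))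
    (g : X ⟶ S) [LocallyOfFiniteType g] (hF : Coh.IsCoh F) (x : X) :
    ∃ W : X.Opens, x ∈ W ∧ ∀ y ∈ W, x ⤳ y →
      LocCoh.depth (X.presheaf.stalk y) (F.presheaf.stalk y) =
        LocCoh.depth (X.presheaf.stalk x) (F.presheaf.stalk x) + (cd x y : ℕ∞) := by
  obtain ⟨V, hV, hgx, -⟩ := exists_isAffineOpen_mem_and_subset (x := g x) (U := ⊤) trivial
  obtain ⟨U, hU, hx, hle⟩ := exists_isAffineOpen_mem_and_subset (x := x) (U := g ⁻¹ᵁ V) hgx
  haveI : IsNoetherianRing Γ(X, U) := IsLocallyNoetherian.component_noetherian ⟨U, hU⟩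
  haveI := QCoh.finite_sections hF hU
  haveI := KRegLib.isRegularRing_sections hreg hV
  letI := (g.appLE V U hle).hom.toAlgebra
  haveI : Algebra.FiniteType Γ(S, V) Γ(X, U) := g.finiteType_appLE hV hU hle
  obtain ⟨n, φ, hφ⟩ := Algebra.FiniteType.iff_quotient_mvPolynomial''.1
    (inferInstance : Algebra.FiniteType Γ(S, V) Γ(X, U))
  letI := φ.toRingHom.toAlgebra
  obtain ⟨f, hf, H⟩ := exists_depAt_eq (MvPolynomial (Fin n) Γ(S, V)) Γ(X, U) hφ Γ(F, U)
    (hU.primeIdealOf ⟨x, hx⟩).asIdeal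
  refine ⟨X.basicOpen f, (QCoh.mem_basicOpen_iff_notMem hU hx f).2 hf, fun y hy hxy => ?_⟩
  have hyU : y ∈ U := X.basicOpen_le f hy
  rw [depth_stalk_eq F hF.1 hU hyU, depth_stalk_eq F hF.1 hU hx, cd_eq_height hU hx hyU hxy]
  exact H _ ((specializes_iff_le hU hx hyU).1 hxy) ((QCoh.mem_basicOpen_iff_notMem hU hyU f).1 hy)

omit [IsLocallyNoetherian X] in
/-- Schemes locally of finite type over a regular, Jacobson, equidimensional base. -/
theorem dimGood_of_regular [JacobsonSpace S] (hreg : ∀ s : S, IsRegularLocalRing ↑(S.presheaf.stalk s))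
    (h3 : ∀ S' ∈ irreducibleComponents (S : Type u), ∀ s ∈ S', IsClosed ({s} : Set S) →
      topologicalKrullDim (↥S' : Type u) = topologicalKrullDim ↥{t : S | t ∈ S' ∧ t ⤳ s})
    (g : X ⟶ S) [LocallyOfFiniteType g] : DimGood X := by
  have h2 : ∀ s : S, CAlg.IsUniversallyCatenary (S.presheaf.stalk s) := fun s => by
    haveI := hreg s
    haveI : LocCoh.IsCohenMacaulayRing (S.presheaf.stalk s) := ⟨fun p _ => by
      haveI := RegLoc6.isRegularLocalRing_localization (S.presheaf.stalk s) p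
      haveI := LC.gorenstein_of_isRegularLocalRing (R := Localization.AtPrime p)
      exact LC.isCohenMacaulayLocalRing_of_gorenstein (R := Localization.AtPrime p)⟩
    exact S0603.result _
  exact (dimGood_of_locallyOfFiniteType g (dimGood_of h2 h3) h2).1

/-- The rectified depth. -/
noncomputable def rdep (x : X) : ℕ∞ :=
  LocCoh.depth (X.presheaf.stalk x) (F.presheaf.stalk x) + (dd x : ℕ∞)

theorem coe_rdep [JacobsonSpace X] (h : DimGood X) (x : X) :
    ((rdep F x : ℕ∞) : WithBot ℕ∞) =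
      ((LocCoh.depth (X.presheaf.stalk x) (F.presheaf.stalk x) : ℕ∞) : WithBot ℕ∞) +
        topologicalKrullDim ↥(closure ({x} : Set X)) := by
  rw [rdep, WithBot.coe_add, h.dim_closure]

theorem rdep_le (h : DimGood X) (hF : Coh.IsCoh F) {x y : X} (hxy : x ⤳ y) : rdep F y ≤ rdep F x := by
  refine (add_le_add (depth_le_add_cd F hF hxy) le_rfl).trans_eq ?_
  rw [rdep, h.dd_add hxy, Nat.cast_add, add_assoc, add_comm (cd x y : ℕ∞)]

theorem exists_rdep_eq (h : DimGood X) (hreg : ∀ s : S, IsRegularLocalRing ↑(S.presheaf.stalk s))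
    (g : X ⟶ S) [LocallyOfFiniteType g] (hF : Coh.IsCoh F) (x : X) :
    ∃ W : X.Opens, x ∈ W ∧ ∀ y ∈ W, x ⤳ y → rdep F y = rdep F x := by
  obtain ⟨W, hW, H⟩ := exists_depth_eq F hreg g hF x
  refine ⟨W, hW, fun y hy hxy => ?_⟩
  rw [rdep, rdep, H y hy hxy, h.dd_add hxy, Nat.cast_add, add_assoc, add_comm (cd x y : ℕ∞)]

theorem isOpen_le_rdep (h : DimGood X) (hreg : ∀ s : S, IsRegularLocalRing ↑(S.presheaf.stalk s))
    (g : X ⟶ S) [LocallyOfFiniteType g] (hF : Coh.IsCoh F) (n : ℕ∞) : IsOpen {x : X | n ≤ rdep F x} := by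
  rw [isOpen_iff_forall_mem_open]
  intro x hx
  obtain ⟨U, hU, hxU, -⟩ := exists_isAffineOpen_mem_and_subset (x := x) (U := ⊤) trivial
  haveI : IsNoetherianRing Γ(X, U) := IsLocallyNoetherian.component_noetherian ⟨U, hU⟩
  have hopen : IsOpen (hU.fromSpec ⁻¹' {x : X | n ≤ rdep F x}) := by
    refine RegLoc6.isOpen_of_forall_generic _ (fun a b hab hb => ?_) fun a ha => ?_
    · exact le_trans hb (rdep_le F h hF
        (((PrimeSpectrum.le_iff_specializes a b).1 hab).map hU.fromSpec.continuous))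
    · obtain ⟨W, hW, H⟩ := exists_rdep_eq F h hreg g hF (hU.fromSpec a)
      obtain ⟨_, ⟨f, rfl⟩, hf, hsub⟩ := PrimeSpectrum.isTopologicalBasis_basic_opens.exists_subset_of_mem_open
        (show a ∈ hU.fromSpec ⁻¹' (W : Set X) from hW) (W.2.preimage hU.fromSpec.continuous)
      exact ⟨f, hf, fun b hab hb => le_of_le_of_eq ha (H _ (hsub hb)
        (((PrimeSpectrum.le_iff_specializes a b).1 hab).map hU.fromSpec.continuous)).symm⟩
  refine ⟨hU.fromSpec '' (hU.fromSpec ⁻¹' {x : X | n ≤ rdep F x}), Set.image_preimage_subset _ _,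
    hU.fromSpec.isOpenEmbedding.isOpenMap _ hopen, ?_⟩
  obtain ⟨a, rfl⟩ : x ∈ Set.range hU.fromSpec := hU.range_fromSpec.ge hxU
  exact ⟨a, hx, rfl⟩

end Groth.Agent.H1RectDepth
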